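import Groth.Agent.TwistDualLib.Abstract
import Groth.Agent.DRingLib.Amplitude
import Groth.Agent.DualCxLib.LocDualGor
import Groth.Prelude.Def_DDual2

/-!
# Twists of dualizing complexes by invertible modules
-/

set_option autoImplicit false
set_option linter.all false
set_option backward.isDefEq.respectTransparency false
set_option backward.isDefEq.respectTransparency.types false

universe u

open CategoryTheory CategoryTheory.Limits HomologicalComplex MonoidalCategory
open Groth.Agent
open DTenLib.Point (hH)

attribute [local instance] HasDerivedCategory.standard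

noncomputable section

namespace TwistDualLib

variable {A : Type u} [CommRing A] (C : DRing.Cx A)

/-- `M ↦ C ⊗ M` in `D(A)`. -/
def twistF : ModuleCat.{u} A ⥤ Dual.D A where
  obj M := DerivedCategory.Q.obj (((tensorRight M).mapHomologicalComplex (ComplexShape.up ℤ)).obj C)
  map {M N} h := DerivedCategory.Q.map
    ((NatTrans.mapHomologicalComplex ((tensoringRight (ModuleCat.{u} A)).map h) (ComplexShape.up ℤ)).app C)
  map_id M := by
    refine Eq.trans ?_ (CategoryTheory.Functor.map_id DerivedCategory.Q _)
    congr 1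
    exact HomologicalComplex.hom_ext _ _ fun i => MonoidalCategory.whiskerLeft_id _ _
  map_comp g h := by
    rw [← DerivedCategory.Q.map_comp]
    congr 1
    exact HomologicalComplex.hom_ext _ _ fun i => MonoidalCategory.whiskerLeft_comp _ _ _

instance twistF_additive : (twistF C).Additive where
  map_add {M N f g} := by
    show DerivedCategory.Q.map _ = DerivedCategory.Q.map _ + DerivedCategory.Q.map _
    rw [← DerivedCategory.Q.map_add]
    congr 1
    exact HomologicalComplex.hom_ext _ _ fun i => MonoidalPreadditive.whiskerLeft_add _ _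

instance twistF_linear : (twistF C).Linear A where
  map_smul {M N} f r := by
    show DerivedCategory.Q.map _ = r • DerivedCategory.Q.map _
    rw [← Functor.map_smul]
    congr 1
    refine HomologicalComplex.hom_ext _ _ fun i => ModuleCat.MonoidalCategory.tensor_ext fun x y => ?_
    show x ⊗ₜ[A] (r • f.hom y) = r • (x ⊗ₜ[A] f.hom y)
    rw [TensorProduct.tmul_smul]

/-- Twisting by `A` does nothing. -/
def twistUnit : (twistF C).obj (ModuleCat.of A A) ≅ DerivedCategory.Q.obj C :=
  DerivedCategory.Q.mapIso ((NatIso.mapHomologicalComplex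
    (rightUnitorNatIso (ModuleCat.{u} A)) (ComplexShape.up ℤ)).app C ≪≫
      (Functor.mapHomologicalComplexIdIso (ModuleCat.{u} A) (ComplexShape.up ℤ)).app C)

/-- The derived tensor product with a module on a K-flat complex. -/
def twistIso (P : ModuleCat.{u} A) [DRing.HasLTensor A P] {ω : Dual.D A} (hC : DRing.IsKFlat A C)
    (eC : DerivedCategory.Q.obj C ≅ ω) : (DRing.LTensor A P).obj ω ≅ (twistF C).obj P :=
  (DRing.LTensor A P).mapIso eC.symm ≪≫ DRingLib.leftDerivedObjIso (Φ := tensorRight P)
    (fun _ _ α hP hQ hα => haveI := hα; DRingLib.quasiIso_tensorN α hP hQ P) C hC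

variable {ω : Dual.D A} (eC : DerivedCategory.Q.obj C ≅ ω) (P : ModuleCat.{u} A) [Module.Invertible A P]

include eC in
/-- Twists of dualizing complexes are dualizing. -/
theorem isDualizing_twist (hω : Dual.IsDualizing A ω) : Dual.IsDualizing A ((twistF C).obj P) := by
  let e := twistUnit C ≪≫ eC
  let F := twistF C
  obtain ⟨a, b, hab⟩ := hω.finite_injective_dimension
  obtain ⟨n, x, φ, hx⟩ := exists_decomp F e P
  refine ⟨hω.isNoetherianRing, ⟨a, b, fun N _ _ i hi => ?_⟩, fun i => ?_, bijective_smul F e P hω.toEnd_bijective,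
    fun i hi => ?_⟩
  · refine subsingleton_of_forall_eq 0 fun f => ?_
    haveI := hab N i hi
    rw [← Category.comp_id f, ← CategoryTheory.Functor.map_id (shiftFunctor (Dual.D A) i), ← hx,
      Functor.map_sum, Preadditive.comp_sum]
    refine Finset.sum_eq_zero fun l _ => ?_
    rw [Functor.map_comp, ← Category.assoc, Subsingleton.elim (f ≫ (α F e (φ l))⟦i⟧') 0, zero_comp]
  · haveI := hω.finite_cohomology i
    let T : (Fin n → (hH A i).obj ω) →ₗ[A] (hH A i).obj (F.obj P) :=
      ∑ l, ((hH A i).map (β F e (x l))).hom.comp (LinearMap.proj l)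
    refine Module.Finite.of_surjective T fun z => ⟨fun l => ((hH A i).map (α F e (φ l))).hom z, ?_⟩
    have h := congrArg (fun t => ((hH A i).map t).hom z) hx
    simp only [Functor.map_sum, Functor.map_comp, CategoryTheory.Functor.map_id, ModuleCat.hom_sum,
      ModuleCat.hom_comp, ModuleCat.hom_id, LinearMap.sum_apply, LinearMap.comp_apply, LinearMap.id_apply] at h
    refine ((LinearMap.sum_apply _ _ _).trans h).trans ?_
    exact congrArg (fun t : ((hH A i).obj (F.obj P) ⟶ (hH A i).obj (F.obj P)) => t.hom z)
      (CategoryTheory.Functor.map_id (hH A i) (F.obj P))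
  · refine subsingleton_of_forall_eq 0 fun f => ?_
    haveI := hω.ext_self_subsingleton i hi
    refine hom_ext_β F e P fun z => ?_
    rw [comp_zero, ← Category.comp_id (β F e z ≫ f), ← CategoryTheory.Functor.map_id (shiftFunctor (Dual.D A) i),
      ← hx, Functor.map_sum, Preadditive.comp_sum]
    refine Finset.sum_eq_zero fun l _ => ?_
    rw [Functor.map_comp, ← Category.assoc, Subsingleton.elim ((β F e z ≫ f) ≫ (α F e (φ l))⟦i⟧') 0, zero_comp]

include eC in
/-- Twist and shift are unique. -/
theorem unique_twist [Nontrivial A] (hω : Dual.IsDualizing A ω) (P' : ModuleCat.{u} A) [Module.Invertible A P']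
    (n n' : ℤ) (i : ((twistF C).obj P)⟦n⟧ ≅ ((twistF C).obj P')⟦n'⟧) : n = n' ∧ Nonempty (P ≃ₗ[A] P') := by
  let e := twistUnit C ≪≫ eC
  let F := twistF C
  let j : F.obj P ≅ (F.obj P')⟦n' - n⟧ := (shiftEquiv (Dual.D A) n).unitIso.app _ ≪≫
    (shiftFunctor _ (-n)).mapIso i ≪≫ ((shiftFunctorAdd' (Dual.D A) n' (-n) (n' - n) (by omega)).app _).symm
  have hn : n = n' := by
    by_contra hne
    haveI := hω.ext_self_subsingleton (n' - n) (by omega)
    obtain ⟨m, y, χ, hy⟩ := exists_decomp F e P'
    have h0 : j.hom = 0 := hom_ext_β F e P fun z => by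
      rw [comp_zero, ← Category.comp_id (β F e z ≫ j.hom),
        ← CategoryTheory.Functor.map_id (shiftFunctor (Dual.D A) (n' - n)), ← hy, Functor.map_sum,
        Preadditive.comp_sum]
      refine Finset.sum_eq_zero fun l _ => ?_
      rw [Functor.map_comp, ← Category.assoc,
        Subsingleton.elim ((β F e z ≫ j.hom) ≫ (α F e (χ l))⟦n' - n⟧') 0, zero_comp]
    have h1 : 𝟙 (F.obj P) = 0 := by rw [← j.hom_inv_id, h0, zero_comp]
    exact zero_ne_one ((bijective_smul F e P hω.toEnd_bijective).1 (a₁ := (0 : A)) (a₂ := 1)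
      (by show (0 : A) • 𝟙 (F.obj P) = (1 : A) • 𝟙 (F.obj P); rw [one_smul, zero_smul, h1]))
  refine ⟨hn, ?_⟩
  subst hn
  exact nonempty_linearEquiv F e P hω.toEnd_bijective P' ((shiftFunctor (Dual.D A) n).preimageIso i)

end TwistDualLib
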