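import Groth.Agent.TwistDualLib.Twist
import Groth.Agent.UniqDualSchLib.Loc

/-!
# Two dualizing complexes over a connected ring differ by a twist and a shift
-/

set_option autoImplicit false
set_option linter.all false
set_option backward.isDefEq.respectTransparency false
set_option backward.isDefEq.respectTransparency.types false

universe u

open CategoryTheory CategoryTheory.Limits
open Groth.Agent Groth.Agent.DualCxLib
open DTenLib.Point (hH)

attribute [local instance] HasDerivedCategory.standard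

noncomputable section

namespace TwistDualLib

variable {A : Type u} [CommRing A] [IsNoetherianRing A]

/-- The elements inverting some map to the `n`-th shift. -/
def pairSet (ω ω' : Dual.D A) (n : ℤ) : Set A :=
  {r | ∃ (f : ω ⟶ ω'⟦n⟧) (g : ω'⟦n⟧ ⟶ ω), f ≫ g = r • 𝟙 ω ∧ g ≫ f = r • 𝟙 (ω'⟦n⟧)}

theorem exists_mem_pairSet {ω ω' : Dual.D A} (hω : Dual.IsDualizing A ω) (hω' : Dual.IsDualizing A ω')
    (p : PrimeSpectrum A) : ∃ (n : ℤ) (r : A), r ∈ pairSet ω ω' n ∧ r ∉ p.asIdeal := by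
  classical
  let φ := algebraMap A (Localization.AtPrime p.asIdeal)
  haveI : DRing.HasLBaseChange φ := DRingLib.hasLBaseChange φ
  haveI : IsNoetherianRing (Localization.AtPrime p.asIdeal) :=
    IsLocalization.isNoetherianRing p.asIdeal.primeCompl _ inferInstance
  obtain ⟨η, hη, hL⟩ := exists_loc_base (S := Localization.AtPrime p.asIdeal) p.asIdeal.primeCompl ω
  obtain ⟨η', hη', hL'⟩ := exists_loc_base (S := Localization.AtPrime p.asIdeal) p.asIdeal.primeCompl ω'
  obtain ⟨d, hR⟩ := isPointwiseDual_of_isDualizing (isDualizing_loc p.asIdeal.primeCompl hω hη hL)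
  obtain ⟨d', hY⟩ := isPointwiseDual_of_isDualizing (isDualizing_loc p.asIdeal.primeCompl hω' hη' hL')
  obtain ⟨ψ⟩ := nonempty_iso_shift hR hY
  let n := d' - d
  let ηY := η'⟦n⟧' ≫ ((DRing.restrictD φ).commShiftIso n).inv.app _
  have hLY := isLocH_shift hL' n
  have hωn := isDualizing_shift hω' n
  obtain ⟨a, b, hab⟩ := hω.finite_injective_dimension
  obtain ⟨a', b', hab'⟩ := hωn.finite_injective_dimension
  have hX : ∀ i, (i < a ∨ a + ((b + 1 - a).toNat : ℤ) ≤ i) → IsZero ((hH A i).obj ω) := fun i hi =>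
    isZero_of_ext_ring i (hab _ i (by omega))
  have hX' : ∀ i, (i < a' ∨ a' + ((b' + 1 - a').toNat : ℤ) ≤ i) → IsZero ((hH A i).obj (ω'⟦n⟧)) := fun i hi =>
    isZero_of_ext_ring i (hab' _ i (by omega))
  obtain ⟨c, hc⟩ := isGE_dualizing hωn
  obtain ⟨c', hc'⟩ := isGE_dualizing hω
  obtain ⟨s, hs, f, hf⟩ := (hom_loc hLY hc hX hω.finite_cohomology).2
    (η ≫ (DRing.restrictD φ).map ψ.inv)
  obtain ⟨s', hs', g, hg⟩ := (hom_loc hL hc' hX' hωn.finite_cohomology).2
    (ηY ≫ (DRing.restrictD φ).map ψ.hom)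
  have e1 : (f ≫ g - (s * s') • 𝟙 ω) ≫ η = 0 := by
    rw [Preadditive.sub_comp, sub_eq_zero, Category.assoc, ← hg, Linear.comp_smul, ← Category.assoc f, ← hf,
      Linear.smul_comp, Category.assoc, ← Functor.map_comp, ψ.inv_hom_id, CategoryTheory.Functor.map_id,
      Category.comp_id, Linear.smul_comp, Category.id_comp, ← mul_smul, mul_comm]
  have e2 : (g ≫ f - (s * s') • 𝟙 (ω'⟦n⟧)) ≫ ηY = 0 := by
    rw [Preadditive.sub_comp, sub_eq_zero, Category.assoc, ← hf, Linear.comp_smul, ← Category.assoc g, ← hg,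
      Linear.smul_comp, Category.assoc, ← Functor.map_comp, ψ.hom_inv_id, CategoryTheory.Functor.map_id]
    erw [Category.comp_id]
    rw [Linear.smul_comp, Category.id_comp, ← mul_smul]
  obtain ⟨t, ht, h1⟩ := (hom_loc hL hc' hX hω.finite_cohomology).1 _ e1
  obtain ⟨t', ht', h2⟩ := (hom_loc hLY hc hX' hωn.finite_cohomology).1 _ e2
  rw [smul_sub, sub_eq_zero] at h1 h2
  refine ⟨n, t * t' * (s * s'), ⟨(t * t') • f, g, ?_, ?_⟩, fun h => ?_⟩
  · rw [Linear.smul_comp, mul_comm t t', mul_smul, h1, ← mul_smul, ← mul_smul, mul_assoc]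
  · rw [Linear.comp_smul, mul_smul t t', h2, ← mul_smul, ← mul_smul, mul_assoc]
  · rcases p.isPrime.mem_or_mem h with h | h
    · exact (p.isPrime.mem_or_mem h).elim ht ht'
    · exact (p.isPrime.mem_or_mem h).elim hs hs'

theorem mul_eq_zero_of_mem_pairSet {ω ω' : Dual.D A} (hω : Dual.IsDualizing A ω) (hω' : Dual.IsDualizing A ω')
    {n m : ℤ} (hnm : n ≠ m) {r r' : A} (hr : r ∈ pairSet ω ω' n) (hr' : r' ∈ pairSet ω ω' m) : r * r' = 0 := by
  obtain ⟨f, g, hfg, -⟩ := hr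
  obtain ⟨f', g', hfg', -⟩ := hr'
  haveI : Subsingleton (ω'⟦n⟧ ⟶ ω'⟦m⟧) := by
    haveI := (isDualizing_shift hω' n).ext_self_subsingleton (m - n) (by omega)
    exact ((Iso.refl _).homCongr (shift₂ ω' n (m - n) m (by omega))).subsingleton_congr.1 inferInstance
  refine hω.toEnd_bijective.1 ?_
  show (r * r') • 𝟙 ω = (0 : A) • 𝟙 ω
  have h : (f ≫ g) ≫ (f' ≫ g') = 0 := by
    rw [Category.assoc, ← Category.assoc g, Subsingleton.elim (g ≫ f') 0, zero_comp, comp_zero]
  rw [hfg, hfg', Linear.smul_comp, Category.id_comp, ← mul_smul] at h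
  rw [h, zero_smul]

theorem exists_span_pairSet [ConnectedSpace (PrimeSpectrum A)] {ω ω' : Dual.D A} (hω : Dual.IsDualizing A ω)
    (hω' : Dual.IsDualizing A ω') : ∃ n : ℤ, Ideal.span (pairSet ω ω' n) = ⊤ := by
  choose N R hR hRp using fun p : PrimeSpectrum A => exists_mem_pairSet hω hω' p
  have huniq : ∀ (p : PrimeSpectrum A) (n : ℤ) (r : A), r ∈ pairSet ω ω' n → r ∉ p.asIdeal → N p = n :=
    fun p n r hr hrp => by
      by_contra hne
      have h := mul_eq_zero_of_mem_pairSet hω hω' hne (hR p) hr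
      exact (p.isPrime.mem_or_mem (h ▸ p.asIdeal.zero_mem)).elim (hRp p) hrp
  have hlc : IsLocallyConstant N := (IsLocallyConstant.iff_exists_open N).2 fun p =>
    ⟨PrimeSpectrum.basicOpen (R p), (PrimeSpectrum.basicOpen (R p)).2, hRp p,
      fun q hq => huniq q (N p) (R p) (hR p) hq⟩
  obtain ⟨p₀⟩ : Nonempty (PrimeSpectrum A) := inferInstance
  refine ⟨N p₀, ?_⟩
  by_contra hne
  obtain ⟨m, hm, hle⟩ := Ideal.exists_le_maximal _ hne
  have := hlc.apply_eq_of_preconnectedSpace ⟨m, hm.isPrime⟩ p₀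
  exact hRp ⟨m, hm.isPrime⟩ (hle (Ideal.subset_span (this ▸ hR ⟨m, hm.isPrime⟩)))

theorem exists_pair_iso [ConnectedSpace (PrimeSpectrum A)] {ω ω' : Dual.D A} (hω : Dual.IsDualizing A ω)
    (hω' : Dual.IsDualizing A ω') :
    ∃ (P : ModuleCat.{u} A) (_ : Module.Invertible A P) (n : ℤ),
      ∀ [DRing.HasLTensor A P], Nonempty (ω' ≅ ((DRing.LTensor A P).obj ω)⟦n⟧) := by
  obtain ⟨n, hn⟩ := exists_span_pairSet hω hω'
  obtain ⟨c, hc⟩ := (Finsupp.mem_span_iff_linearCombination A _ (1 : A)).1 (hn ▸ Submodule.mem_top)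
  choose f g hfg hgf using fun r : pairSet ω ω' n => r.2
  let r := c.support.equivFin.symm
  let f' : Fin c.support.card → (ω ⟶ ω'⟦n⟧) := fun i => c (r i) • f (r i)
  let g' : Fin c.support.card → (ω'⟦n⟧ ⟶ ω) := fun i => g (r i)
  have h1 : ∑ i, c (r i) * (r i : pairSet ω ω' n).1 = (1 : A) := by
    rw [Finsupp.linearCombination_apply, Finsupp.sum, ← Finset.sum_coe_sort] at hc
    rw [← hc]
    exact Equiv.sum_comp r fun j : c.support => c j * (j : pairSet ω ω' n).1
  obtain ⟨C, hC, ⟨eC⟩⟩ := DRingLib.exists_good_rep ω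
  obtain ⟨P, hP, ⟨i⟩⟩ := exists_twist (twistF C) (twistUnit C ≪≫ eC) hω.toEnd_bijective
    (isDualizing_shift hω' n).toEnd_bijective f' g'
    (by simp only [f', g', Linear.smul_comp, hfg, ← mul_smul, ← Finset.sum_smul, h1, one_smul])
    (by simp only [f', g', Linear.comp_smul, hgf, ← mul_smul, ← Finset.sum_smul, h1, one_smul])
  exact ⟨P, hP, -n, ⟨(shiftEquiv (Dual.D A) n).unitIso.app ω' ≪≫
    (shiftFunctor _ (-n)).mapIso (i ≪≫ (twistIso C P hC.1 eC).symm)⟩⟩

end TwistDualLib
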