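import Mathlib

/-!
# Twisting an object with scalar endomorphisms by invertible modules

An `A`-linear functor `F` from modules to an `A`-linear category plays the role of `P ↦ ω ⊗ P`.
-/

set_option autoImplicit false
set_option linter.all false

universe u w v

open CategoryTheory TensorProduct

noncomputable section

namespace TwistDualLib

variable {A : Type u} [CommRing A]

theorem exists_dualBasis (P : Type u) [AddCommGroup P] [Module A P] [Module.Finite A P] [Module.Projective A P] :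
    ∃ (n : ℕ) (x : Fin n → P) (φ : Fin n → (P →ₗ[A] A)), ∀ z : P, ∑ l, φ l z • x l = z := by
  obtain ⟨n, f, hf⟩ := Module.Finite.exists_fin' A P
  obtain ⟨g, hg⟩ := Module.projective_lifting_property f LinearMap.id hf
  refine ⟨n, fun l => f (Pi.single l 1), fun l => (LinearMap.proj l).comp g, fun z => ?_⟩
  have h : g z = ∑ l, g z l • Pi.single l (1 : A) := (pi_eq_sum_univ' (g z))
  have := congrArg f h
  rw [show f (g z) = z from LinearMap.congr_fun hg z, map_sum] at this
  simp only [map_smul] at this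
  exact this.symm

theorem exists_dual_pair (P : Type u) [AddCommGroup P] [Module A P] [Module.Invertible A P] :
    ∃ (m : ℕ) (ψ : Fin m → (P →ₗ[A] A)) (z : Fin m → P), ∑ j, ψ j (z j) = 1 := by
  obtain ⟨t, ht⟩ := (Module.Invertible.bijective (R := A) (M := P)).2 1
  suffices h : ∀ t, ∃ (m : ℕ) (ψ : Fin m → (P →ₗ[A] A)) (z : Fin m → P), ∑ j, ψ j (z j) = contractLeft A P t by
    obtain ⟨m, ψ, z, h⟩ := h t
    exact ⟨m, ψ, z, h.trans ht⟩
  intro t
  induction t using TensorProduct.induction_on with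
  | zero => exact ⟨0, Fin.elim0, Fin.elim0, by simp⟩
  | tmul φ x => exact ⟨1, fun _ => φ, fun _ => x, by simp⟩
  | add a b ha hb =>
    obtain ⟨m, ψ, z, h⟩ := ha
    obtain ⟨m', ψ', z', h'⟩ := hb
    exact ⟨m + m', Fin.append ψ ψ', Fin.append z z', by simp [Fin.sum_univ_add, h, h']⟩

variable {D : Type w} [Category.{v} D] [Preadditive D] [Linear A D]
  (F : ModuleCat.{u} A ⥤ D) [F.Additive] [F.Linear A] {ω : D} (e : F.obj (ModuleCat.of A A) ≅ ω)

/-- The map attached to an element. -/
def β {P : ModuleCat.{u} A} (x : P) : ω ⟶ F.obj P :=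
  e.inv ≫ F.map (ModuleCat.ofHom (LinearMap.toSpanSingleton A P x))

/-- The map attached to a functional. -/
def α {P : ModuleCat.{u} A} (φ : P →ₗ[A] A) : F.obj P ⟶ ω :=
  F.map (ModuleCat.ofHom (Y := A) φ) ≫ e.hom

theorem β_α {P : ModuleCat.{u} A} (x : P) (φ : P →ₗ[A] A) : β F e x ≫ α F e φ = φ x • 𝟙 ω := by
  rw [β, α, Category.assoc, ← Category.assoc (F.map _), ← F.map_comp]
  rw [show ModuleCat.ofHom (LinearMap.toSpanSingleton A P x) ≫ ModuleCat.ofHom (Y := A) φ =
      φ x • 𝟙 (ModuleCat.of A A) from ModuleCat.hom_ext (LinearMap.ext_ring (by simp)), F.map_smul,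
    CategoryTheory.Functor.map_id, Linear.smul_comp, Category.id_comp, Linear.comp_smul, e.inv_hom_id]

theorem α_β {P Q : ModuleCat.{u} A} (φ : P →ₗ[A] A) (x : Q) :
    α F e φ ≫ β F e x = F.map (ModuleCat.ofHom (φ.smulRight x)) := by
  rw [β, α, Category.assoc, Iso.hom_inv_id_assoc, ← F.map_comp]
  congr 1

theorem sum_α_β {P Q : ModuleCat.{u} A} {ι : Type*} (s : Finset ι) (φ : ι → (P →ₗ[A] A)) (x : ι → Q)
    (c : ι → A) (h : P ⟶ Q) (H : ∀ z : P, ∑ l ∈ s, c l • (φ l z • x l) = h.hom z) :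
    ∑ l ∈ s, c l • (α F e (φ l) ≫ β F e (x l)) = F.map h := by
  simp only [α_β, ← F.map_smul, ← F.map_sum]
  congr 1
  exact ModuleCat.hom_ext (LinearMap.ext fun z => by simp [ModuleCat.hom_sum, ← H z])

section Invertible

variable (P : ModuleCat.{u} A) [Module.Invertible A P]

include e

theorem exists_decomp : ∃ (n : ℕ) (x : Fin n → P) (φ : Fin n → (P →ₗ[A] A)),
    ∑ l, α F e (φ l) ≫ β F e (x l) = 𝟙 (F.obj P) := by
  obtain ⟨n, x, φ, h⟩ := exists_dualBasis (A := A) P
  refine ⟨n, x, φ, ?_⟩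
  rw [← CategoryTheory.Functor.map_id]
  simpa using sum_α_β F e Finset.univ φ x (fun _ => 1) (𝟙 P) (fun z => by simpa using h z)

/-- Maps into a twist are detected by the functionals. -/
theorem hom_ext_α {N : D} {f g : N ⟶ F.obj P} (h : ∀ φ : P →ₗ[A] A, f ≫ α F e φ = g ≫ α F e φ) : f = g := by
  obtain ⟨n, x, φ, hx⟩ := exists_decomp F e P
  rw [← Category.comp_id f, ← Category.comp_id g, ← hx, Preadditive.comp_sum, Preadditive.comp_sum]
  exact Finset.sum_congr rfl fun l _ => by rw [reassoc_of% h (φ l)]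

/-- Maps out of a twist are detected by the elements. -/
theorem hom_ext_β {N : D} {f g : F.obj P ⟶ N} (h : ∀ x : P, β F e x ≫ f = β F e x ≫ g) : f = g := by
  obtain ⟨n, x, φ, hx⟩ := exists_decomp F e P
  rw [← Category.id_comp f, ← Category.id_comp g, ← hx, Preadditive.sum_comp, Preadditive.sum_comp]
  exact Finset.sum_congr rfl fun l _ => by rw [Category.assoc, Category.assoc, h (x l)]

/-- The scalars of an invertible twist. -/
theorem bijective_smul (hω : Function.Bijective fun r : A => r • 𝟙 ω) :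
    Function.Bijective fun r : A => r • 𝟙 (F.obj P) := by
  obtain ⟨m, ψ, z, hz⟩ := exists_dual_pair (A := A) P
  refine ⟨fun a b hab => ?_, fun g => ?_⟩
  · have key : ∀ j, a * ψ j (z j) = b * ψ j (z j) := fun j => hω.1 (by
      have := congrArg (fun t => β F e (z j) ≫ t ≫ α F e (ψ j)) hab
      simpa [Linear.smul_comp, Linear.comp_smul, β_α, mul_smul] using this)
    have := Finset.sum_congr (s₁ := Finset.univ) rfl fun j _ => key j
    rwa [← Finset.mul_sum, ← Finset.mul_sum, hz, mul_one, mul_one] at this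
  · obtain ⟨n, x, φ, hx⟩ := exists_decomp F e P
    choose a ha using fun lk : Fin n × Fin n => hω.2 (β F e (x lk.1) ≫ g ≫ α F e (φ lk.2))
    let h : P →ₗ[A] P := ∑ lk : Fin n × Fin n, a lk • (φ lk.1).smulRight (x lk.2)
    obtain ⟨r, hr⟩ := (Module.Invertible.toModuleEnd_bijective A P).2 h
    refine ⟨r, ?_⟩
    show r • 𝟙 (F.obj P) = g
    have h1 : g = ∑ lk : Fin n × Fin n, a lk • (α F e (φ lk.1) ≫ β F e (x lk.2)) := by
      rw [Fintype.sum_prod_type]
      conv_lhs => rw [← Category.id_comp g, ← hx, Preadditive.sum_comp]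
      refine Finset.sum_congr rfl fun l _ => ?_
      conv_lhs => rw [← Category.comp_id g, ← hx, Preadditive.comp_sum, Preadditive.comp_sum]
      refine Finset.sum_congr rfl fun k _ => ?_
      have hlk : a (l, k) • 𝟙 ω = β F e (x l) ≫ g ≫ α F e (φ k) := ha (l, k)
      calc (α F e (φ l) ≫ β F e (x l)) ≫ g ≫ α F e (φ k) ≫ β F e (x k)
          = α F e (φ l) ≫ (β F e (x l) ≫ g ≫ α F e (φ k)) ≫ β F e (x k) := by simp only [Category.assoc]
        _ = _ := by rw [← hlk, Linear.smul_comp, Category.id_comp, Linear.comp_smul]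
    rw [h1, sum_α_β F e Finset.univ _ _ _ (r • 𝟙 P) (fun z => ?_), F.map_smul, CategoryTheory.Functor.map_id]
    have := LinearMap.congr_fun hr z
    simpa [h] using this.symm

/-- Two twists that agree are twists by isomorphic modules. -/
theorem nonempty_linearEquiv (hω : Function.Bijective fun r : A => r • 𝟙 ω)
    (P' : ModuleCat.{u} A) [Module.Invertible A P'] (i : F.obj P ≅ F.obj P') : Nonempty (P ≃ₗ[A] P') := by
  have lift : ∀ (M N : ModuleCat.{u} A) [Module.Invertible A M] [Module.Invertible A N]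
      (g : F.obj M ⟶ F.obj N), ∃ h : M ⟶ N, F.map h = g := fun M N _ _ g => by
    obtain ⟨n, x, φ, hx⟩ := exists_decomp F e M
    obtain ⟨m, y, χ, hy⟩ := exists_decomp F e N
    choose a ha using fun lk : Fin n × Fin m => hω.2 (β F e (x lk.1) ≫ g ≫ α F e (χ lk.2))
    refine ⟨ModuleCat.ofHom (∑ lk : Fin n × Fin m, a lk • (φ lk.1).smulRight (y lk.2)), ?_⟩
    rw [← sum_α_β F e Finset.univ (fun lk : Fin n × Fin m => φ lk.1) (fun lk => y lk.2) a _
      (fun z => by simp), Fintype.sum_prod_type]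
    conv_rhs => rw [← Category.id_comp g, ← hx, Preadditive.sum_comp]
    refine Finset.sum_congr rfl fun l _ => ?_
    conv_rhs => rw [← Category.comp_id g, ← hy, Preadditive.comp_sum, Preadditive.comp_sum]
    refine Finset.sum_congr rfl fun k _ => ?_
    have hlk : a (l, k) • 𝟙 ω = β F e (x l) ≫ g ≫ α F e (χ k) := ha (l, k)
    symm
    calc (α F e (φ l) ≫ β F e (x l)) ≫ g ≫ α F e (χ k) ≫ β F e (y k)
        = α F e (φ l) ≫ (β F e (x l) ≫ g ≫ α F e (χ k)) ≫ β F e (y k) := by simp only [Category.assoc]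
      _ = _ := by rw [← hlk, Linear.smul_comp, Category.id_comp, Linear.comp_smul]
  obtain ⟨h, hh⟩ := lift P P' i.hom
  obtain ⟨h', hh'⟩ := lift P' P i.inv
  have inj : ∀ (M : ModuleCat.{u} A) [Module.Invertible A M] (t : M ⟶ M), F.map t = 𝟙 _ → t = 𝟙 M := fun M _ t ht => by
    obtain ⟨r, hr⟩ := (Module.Invertible.toModuleEnd_bijective A M).2 t.hom
    have h1 : t = r • 𝟙 M := ModuleCat.hom_ext (hr.symm.trans (LinearMap.ext fun z => rfl))
    rw [h1] at ht ⊢
    rw [F.map_smul, CategoryTheory.Functor.map_id] at ht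
    rw [(bijective_smul F e M hω).1 (a₁ := r) (a₂ := 1) (by show r • _ = (1 : A) • _; rw [ht, one_smul]), one_smul]
  let j : P ≅ P' :=
    { hom := h
      inv := h'
      hom_inv_id := inj P _ (by rw [F.map_comp, hh, hh', i.hom_inv_id])
      inv_hom_id := inj P' _ (by rw [F.map_comp, hh, hh', i.inv_hom_id]) }
  exact ⟨j.toLinearEquiv⟩

end Invertible

include e in
/-- An object locally isomorphic to `ω` is a twist of `ω`. -/
theorem exists_twist {ω₂ : D} (hω : Function.Bijective fun r : A => r • 𝟙 ω)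
    (hω₂ : Function.Bijective fun r : A => r • 𝟙 ω₂) {k : ℕ} (f : Fin k → (ω ⟶ ω₂)) (g : Fin k → (ω₂ ⟶ ω))
    (hfg : ∑ j, f j ≫ g j = 𝟙 ω) (hgf : ∑ j, g j ≫ f j = 𝟙 ω₂) :
    ∃ P : ModuleCat.{u} A, Module.Invertible A P ∧ Nonempty (ω₂ ≅ F.obj P) := by
  let s : (ω ⟶ ω) ≃ₗ[A] A := (LinearEquiv.ofBijective (LinearMap.toSpanSingleton A (ω ⟶ ω) (𝟙 ω)) hω).symm
  have hs : ∀ u : ω ⟶ ω, s u • 𝟙 ω = u := fun u =>
    (LinearEquiv.ofBijective (LinearMap.toSpanSingleton A (ω ⟶ ω) (𝟙 ω)) hω).apply_symm_apply u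
  let Λ : (ω ⟶ ω₂) →ₗ[A] (Fin k → A) :=
    LinearMap.pi fun l => s.toLinearMap.comp (Linear.rightComp A ω (g l))
  have hΛ : ∀ x l, Λ x l = s (x ≫ g l) := fun x l => rfl
  have hexp : ∀ x : ω ⟶ ω₂, ∑ l, s (x ≫ g l) • f l = x := fun x => by
    conv_rhs => rw [← Category.comp_id x, ← hgf, Preadditive.comp_sum]
    refine Finset.sum_congr rfl fun l _ => ?_
    rw [← Category.assoc]
    conv_rhs => rw [← hs (x ≫ g l), Linear.smul_comp, Category.id_comp]
  have hinj : Function.Injective Λ := fun x y hxy => by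
    rw [← hexp x, ← hexp y]
    exact Finset.sum_congr rfl fun l _ => by rw [← hΛ, ← hΛ, hxy]
  let P : ModuleCat.{u} A := ModuleCat.of A (LinearMap.range Λ)
  let θ : (ω ⟶ ω₂) ≃ₗ[A] P := LinearEquiv.ofInjective Λ hinj
  let φ : Fin k → (P →ₗ[A] A) := fun l => (LinearMap.proj l).comp (LinearMap.range Λ).subtype
  let y : Fin k → P := fun l => θ (f l)
  have hφ : ∀ x l, φ l (θ x) = s (x ≫ g l) := fun x l => rfl
  have hb : ∀ z : P, ∑ l, φ l z • y l = z := fun z => by
    obtain ⟨x, rfl⟩ := θ.surjective z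
    simp only [y, hφ, ← map_smul, ← map_sum, hexp]
  have h1 : ∑ l, φ l (y l) = 1 := by
    refine hω.1 ?_
    show (∑ l, φ l (y l)) • 𝟙 ω = (1 : A) • 𝟙 ω
    rw [one_smul, Finset.sum_smul]
    exact (Finset.sum_congr rfl fun l _ => by rw [hφ, hs]).trans hfg
  have hsym : ∀ (h : P →ₗ[A] P) (z : P), h z = (∑ l, φ l (h (y l))) • z := fun h z => by
    obtain ⟨x, rfl⟩ := θ.surjective z
    have hzl : ∀ l, s (f l ≫ g l) • h (θ x) = φ l (h (y l)) • θ x := fun l => by
      obtain ⟨r, hr⟩ := hω₂.2 (g l ≫ x)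
      have hr' : r • 𝟙 ω₂ = g l ≫ x := hr
      have e1 : s (f l ≫ g l) • x = r • f l := by
        rw [show s (f l ≫ g l) • x = (f l ≫ g l) ≫ x by
            conv_rhs => rw [← hs (f l ≫ g l), Linear.smul_comp, Category.id_comp],
          Category.assoc, ← hr', Linear.comp_smul, Category.comp_id]
      obtain ⟨w, hw⟩ := θ.surjective (h (y l))
      have e2 : s (w ≫ g l) • x = r • w := by
        rw [show s (w ≫ g l) • x = (w ≫ g l) ≫ x by
            conv_rhs => rw [← hs (w ≫ g l), Linear.smul_comp, Category.id_comp],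
          Category.assoc, ← hr', Linear.comp_smul, Category.comp_id]
      rw [← map_smul h, ← map_smul θ, e1, map_smul θ, map_smul h, show h (θ (f l)) = h (y l) from rfl, ← hw,
        hφ, ← map_smul θ, ← map_smul θ, e2]
    rw [Finset.sum_smul, ← Finset.sum_congr rfl fun l _ => hzl l, ← Finset.sum_smul,
      show ∑ l, s (f l ≫ g l) = 1 from h1, one_smul]
  have hinv : Module.Invertible A P := by
    refine ⟨⟨(injective_iff_map_eq_zero _).2 fun t ht => ?_, fun a => ⟨a • ∑ l, φ l ⊗ₜ[A] y l, ?_⟩⟩⟩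
    · have key : ∀ t, t = contractLeft A P t • ∑ l, φ l ⊗ₜ[A] y l := fun t => by
        induction t using TensorProduct.induction_on with
        | zero => simp
        | add a b ha hb => rw [map_add, add_smul, ← ha, ← hb]
        | tmul ψ x =>
          have hx : ψ ⊗ₜ[A] x = ∑ l, (φ l x • ψ) ⊗ₜ[A] y l := by
            conv_lhs => rw [← hb x, tmul_sum]
            simp only [tmul_smul, smul_tmul']
          rw [contractLeft_apply]
          conv_lhs => rw [hx]
          rw [Finset.smul_sum]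
          refine Finset.sum_congr rfl fun l _ => ?_
          rw [smul_tmul']
          congr 1
          refine LinearMap.ext fun z => ?_
          have h2 := congrArg (φ l) (hsym (ψ.smulRight x) z)
          simp only [LinearMap.smulRight_apply, map_smul, smul_eq_mul] at h2
          have h3 : ∑ i, ψ (y i) * φ i x = ψ x := by
            conv_rhs => rw [← hb x]
            simp [mul_comm]
          rw [h3] at h2
          simp only [LinearMap.smul_apply, smul_eq_mul]
          rw [mul_comm, h2]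
      rw [key t, ht, zero_smul]
    · simp [map_sum, h1]
  refine ⟨P, hinv, ⟨{
    hom := ∑ l, g l ≫ β F e (y l)
    inv := ∑ m, α F e (φ m) ≫ f m
    hom_inv_id := ?_
    inv_hom_id := ?_ }⟩⟩
  · simp only [Preadditive.sum_comp, Preadditive.comp_sum, Category.assoc]
    calc ∑ m, ∑ l, g l ≫ β F e (y l) ≫ α F e (φ m) ≫ f m = ∑ l, ∑ m, g l ≫ (φ m (y l) • f m) := by
          rw [Finset.sum_comm]
          refine Finset.sum_congr rfl fun l _ => Finset.sum_congr rfl fun m _ => ?_
          rw [reassoc_of% β_α F e, Linear.smul_comp, Category.id_comp]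
      _ = ∑ l, g l ≫ f l := Finset.sum_congr rfl fun l _ => by
          rw [← Preadditive.comp_sum]; simp only [y, hφ, hexp]
      _ = 𝟙 ω₂ := hgf
  · simp only [Preadditive.sum_comp, Preadditive.comp_sum, Category.assoc]
    rw [Finset.sum_comm, ← CategoryTheory.Functor.map_id,
      ← sum_α_β F e Finset.univ (fun mk : Fin k × Fin k => φ mk.1) (fun mk => y mk.2)
        (fun mk => φ mk.2 (y mk.1)) (𝟙 P) (fun z => by
          rw [Fintype.sum_prod_type]
          conv_rhs => rw [ModuleCat.hom_id, LinearMap.id_apply, ← hb z]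
          refine Finset.sum_congr rfl fun m _ => ?_
          conv_rhs => rw [← hb (y m), Finset.smul_sum]
          exact Finset.sum_congr rfl fun l _ => smul_comm _ _ _),
      Fintype.sum_prod_type]
    refine Finset.sum_congr rfl fun m _ => Finset.sum_congr rfl fun l _ => ?_
    rw [← Category.assoc (f m)]
    simp only [y, hφ]
    conv_lhs => rw [← hs (f m ≫ g l), Linear.smul_comp, Category.id_comp, Linear.comp_smul]

end TwistDualLib
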